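import Cfsg.Agent.R2.Spec.X7.Frame
import Cfsg.Agent.R2.Spec.X7.NumP2
import Cfsg.Agent.R2.Spec.X7.NumM2
import Cfsg.Agent.S0280

/-!
# `PSL_5(q)`, `PSL_7(q)`, `PSU_5(q)`, `q` odd: no composition factors of Lie type in other characteristics
-/

set_option autoImplicit false

namespace Cfsg.Agent.R2.Spec.X7

open Finset Function Cfsg Subgroup Cfsg.Agent.H420.QR Cfsg.Agent.H360.Iso
open Cfsg.Agent.H426.LieFam Cfsg.Agent.R2.Spec Cfsg.Agent.R2.Spec.F1

universe u w

/-- **The primes of the isolated number.** -/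
theorem not_dvd_ua {s : ℤ} {n t R r : ℕ} (hn : n.Prime) (hn2 : n ≠ 2) (ht : (s - 1).natAbs = t) (ht0 : 0 < t)
    (hR : R * (Nat.gcd n t * t) = ua s n) (hR0 : 0 < R) (hr : r.Prime) (hrR : r ∣ R) {a : ℕ} (ha1 : 1 ≤ a)
    (ha : a < n) : ¬ r ∣ ua s a := by
  have hrf := Fact.mk hr
  have hnf := Fact.mk hn
  intro hra
  have zc : ∀ b : ℕ, r ∣ ua s b → ((s : ℤ) : ZMod r) ^ b = 1 := by
    intro b hb
    have h1 : (r : ℤ) ∣ s ^ b - 1 := Int.natCast_dvd.2 hb
    have h2 := (ZMod.intCast_zmod_eq_zero_iff_dvd _ r).2 h1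
    push_cast at h2
    linear_combination h2
  have hrn : r ∣ ua s n := by
    rw [← hR]
    exact hrR.mul_right _
  have h1 := orderOf_dvd_of_pow_eq_one (zc a hra)
  have h2 := orderOf_dvd_of_pow_eq_one (zc n hrn)
  rcases (Nat.dvd_prime hn).1 h2 with h3 | h3
  · rw [orderOf_eq_one_iff] at h3
    have hrs : (r : ℤ) ∣ s - 1 := by
      rw [← ZMod.intCast_zmod_eq_zero_iff_dvd]
      push_cast
      rw [h3, sub_self]
    have hrt : r ∣ t := by
      rw [← ht]
      exact Int.natCast_dvd.1 hrs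
    -- `R * gcd = |es s n|`
    have h4 : R * Nat.gcd n t = (es s n).natAbs := by
      apply Nat.eq_of_mul_eq_mul_right ht0
      rw [mul_assoc, hR, ua_eq, ht]
    have h5 : (r : ℤ) ∣ es s n := Int.natCast_dvd.2 (by rw [← h4]; exact hrR.mul_right _)
    have h6 : (r : ℤ) ∣ n := by
      have := dvd_sub h5 (hrs.trans (es_modEq s n))
      rwa [sub_sub_cancel] at this
    have h7 : r = n := (Nat.prime_dvd_prime_iff_eq hr hn).1 (by exact_mod_cast h6)
    subst h7
    have hg : Nat.gcd r t = r := Nat.gcd_eq_left hrt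
    have hodd : Odd r := hr.odd_of_ne_two hn2
    have hns : ¬ (r : ℤ) ∣ s := by
      intro h8
      have h9 := dvd_sub h8 hrs
      rw [sub_sub_cancel] at h9
      have : r ∣ 1 := by exact_mod_cast h9
      exact hr.one_lt.ne' (Nat.dvd_one.1 this)
    have hv := Int.emultiplicity_pow_sub_pow hr hodd (x := s) (y := 1) hrs hns r
    rw [one_pow] at hv
    have hv1 : emultiplicity (r : ℤ) (s ^ r - 1) = emultiplicity r (ua s r) := by
      rw [ua, Int.emultiplicity_natAbs]
    have hv2 : emultiplicity (r : ℤ) (s - 1) = emultiplicity r t := by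
      rw [← ht, Int.emultiplicity_natAbs]
    rw [hv1, hv2, ← hR, hg, emultiplicity_mul (Nat.prime_iff.1 hr), emultiplicity_mul (Nat.prime_iff.1 hr)] at hv
    have hfin : FiniteMultiplicity r t := Nat.finiteMultiplicity_iff.2 ⟨hr.one_lt.ne', ht0⟩
    have hfin' : FiniteMultiplicity r r := Nat.finiteMultiplicity_iff.2 ⟨hr.one_lt.ne', hr.pos⟩
    have hfinR : FiniteMultiplicity r R := Nat.finiteMultiplicity_iff.2 ⟨hr.one_lt.ne', hR0⟩
    rw [hfin.emultiplicity_eq_multiplicity, hfin'.emultiplicity_eq_multiplicity,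
      hfinR.emultiplicity_eq_multiplicity] at hv
    have h8 : multiplicity r R + (multiplicity r r + multiplicity r t) = multiplicity r t + multiplicity r r := by
      exact_mod_cast hv
    have h9 : 0 < multiplicity r R := multiplicity_pos_of_dvd hrR
    omega
  · rw [h3] at h1
    have := Nat.le_of_dvd ha1 h1
    omega

/-- **The primes of the isolated number are large.** -/
theorem lt_of_dvd_iso {s : ℤ} {n t R r : ℕ} (hn : n.Prime) (hn5 : 5 ≤ n) (ht : (s - 1).natAbs = t) (ht0 : 0 < t)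
    (hR : R * (Nat.gcd n t * t) = ua s n) (hR0 : 0 < R) (hr : r.Prime) (hrR : r ∣ R) :
    7 < r ∧ orderOf ((s : ℤ) : ZMod r) = n := by
  have hrf := Fact.mk hr
  have h1 : ¬ r ∣ ua s 1 := not_dvd_ua hn (by omega) ht ht0 hR hR0 hr hrR le_rfl (by omega)
  have hrn : r ∣ ua s n := by
    rw [← hR]
    exact hrR.mul_right _
  have h2 : (r : ℤ) ∣ s ^ n - 1 := Int.natCast_dvd.2 hrn
  have h3 := (ZMod.intCast_zmod_eq_zero_iff_dvd _ r).2 h2
  push_cast at h3
  have h4 : ((s : ℤ) : ZMod r) ^ n = 1 := by linear_combination h3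
  have h5 : orderOf ((s : ℤ) : ZMod r) = n := by
    rcases (Nat.dvd_prime hn).1 (orderOf_dvd_of_pow_eq_one h4) with h5 | h5
    · exfalso
      rw [orderOf_eq_one_iff] at h5
      apply h1
      have h6 : (r : ℤ) ∣ s ^ 1 - 1 := by
        rw [← ZMod.intCast_zmod_eq_zero_iff_dvd]
        push_cast
        rw [h5]
        ring
      exact Int.natCast_dvd.1 h6
    · exact h5
  refine ⟨?_, h5⟩
  have h6 : ((s : ℤ) : ZMod r) ≠ 0 := by
    intro h6
    rw [h6, zero_pow (by omega)] at h4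
    exact zero_ne_one h4
  have h7 := orderOf_dvd_of_pow_eq_one (ZMod.pow_card_sub_one_eq_one h6)
  rw [h5] at h7
  have h8 := Nat.le_of_dvd (by have := hr.two_le; omega) h7
  have hr2 := hr.two_le
  rcases Nat.lt_or_ge 7 r with h9 | h9
  · exact h9
  · exfalso
    interval_cases r
    · omega
    · omega
    · omega
    · omega
    · exact absurd hr (by norm_num)
    · have : n = 5 ∨ n = 6 := by omega
      rcases this with h | h
      · rw [h] at h7; norm_num at h7
      · rw [h] at hn; norm_num at hn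

theorem NoCross.congr {p : ℕ} {L L' : Type w} [Group L] [Group L'] (h : NoCross.{u, w} p L) (e : L ≃* L') :
    NoCross.{u, w} p L' := by
  intro G _ _ hG
  refine h G (hG.trans ?_)
  ext n
  simp only [Set.mem_range]
  constructor
  · rintro ⟨x, hx⟩
    exact ⟨e.symm x, by rw [← hx]; exact orderOf_injective e.symm.toMonoidHom e.symm.injective x⟩
  · rintro ⟨x, hx⟩
    exact ⟨e x, by rw [← hx]; exact orderOf_injective e.toMonoidHom e.injective x⟩

theorem gcd_mul_dvd_ua {s : ℤ} {n t : ℕ} (ht : (s - 1).natAbs = t) : Nat.gcd n t * t ∣ ua s n := by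
  rw [ua_eq, ht]
  apply Nat.mul_dvd_mul_right
  apply Int.natCast_dvd.1
  have h1 : ((Nat.gcd n t : ℕ) : ℤ) ∣ s - 1 := Int.natCast_dvd.2 (by rw [ht]; exact Nat.gcd_dvd_right _ _)
  have h2 := h1.trans (es_modEq s n)
  have h3 : ((Nat.gcd n t : ℕ) : ℤ) ∣ n := by exact_mod_cast Nat.gcd_dvd_left n t
  have h4 := dvd_add h2 h3
  rwa [sub_add_cancel] at h4

/-- **`PSL_5(q)`, `PSL_7(q)`.** -/
theorem noCross_psl {p f n : ℕ} (hn : n = 5 ∨ n = 7) (hp : p.Prime) (hp2 : p ≠ 2) {L : Type w} [Group L] [Finite L]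
    (hL : Fam.Is p f L (.psl n)) : NoCross.{u, w} p L := by
  have hfp := Fact.mk hp
  have hcoq : Coq3 L := by
    rcases hn with rfl | rfl
    · exact coq3_of_classes (t := .psl 5) trivial hp hL hp2 (i := 4) (j := 3) (k := 5) (by norm_num) (by norm_num)
        (by norm_num) (show 4 ≤ 5 by norm_num) (show 3 ≤ 5 by norm_num) (show 5 ≤ 5 by norm_num)
        ⟨by norm_num, by norm_num, by norm_num⟩ ⟨by norm_num, by norm_num, by norm_num⟩
        ⟨by norm_num, by norm_num, by norm_num⟩ (by norm_num) (by norm_num)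
    · exact coq3_of_classes (t := .psl 7) trivial hp hL hp2 (i := 5) (j := 6) (k := 7) (by norm_num) (by norm_num)
        (by norm_num) (show 5 ≤ 7 by norm_num) (show 6 ≤ 7 by norm_num) (show 7 ≤ 7 by norm_num)
        ⟨by norm_num, by norm_num, by norm_num⟩ ⟨by norm_num, by norm_num, by norm_num⟩
        ⟨by norm_num, by norm_num, by norm_num⟩ (by norm_num) (by norm_num)
  obtain ⟨-, -, F, _, _, _, hF, ⟨e⟩⟩ := hL
  have hnp : n.Prime := by rcases hn with rfl | rfl <;> norm_num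
  have hn5 : 5 ≤ n := by omega
  have hf : f ≠ 0 := by
    rintro rfl
    have := Fintype.one_lt_card (α := F)
    rw [hF] at this
    simp at this
  obtain ⟨q, hq⟩ : ∃ q, q = p ^ f := ⟨_, rfl⟩
  rw [← hq] at hF
  have hq3 : 3 ≤ q := by
    have h1 := Nat.le_self_pow hf p
    have h2 := hp.two_le
    omega
  have ht := (par_plus hq3).ht
  obtain ⟨R, hR⟩ := gcd_mul_dvd_ua (s := (q : ℤ)) (n := n) ht
  rw [mul_comm] at hR
  have hua := ua_plus (q := q) (by omega) n
  have hR0 : 0 < R := by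
    rcases Nat.eq_zero_or_pos R with h | h
    · exfalso
      rw [h, zero_mul] at hR
      have := (par_plus hq3).pos n (by omega)
      omega
    · exact h
  have hP : PNum p q n (Nat.gcd n (q - 1)) (Nat.gcd n (q - 1) * (q - 1)) R :=
    ⟨hn, hp, hp2, ⟨f, by omega, hq⟩, rfl, rfl, by rw [← hR, hua]⟩
  have hwp := hP.w_pos
  have hbig := hP.big
  have hprime : ∀ r : ℕ, r.Prime → r ∣ R → 7 < r ∧ r ≠ p ∧ ∀ a, 1 ≤ a → a < n → ¬ r ∣ ua (q : ℤ) a := by
    intro r hr hrR
    refine ⟨(lt_of_dvd_iso hnp hn5 ht (by omega) hR.symm hR0 hr hrR).1, ?_, fun a ha1 ha2 =>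
      not_dvd_ua hnp (by omega) ht (by omega) hR.symm hR0 hr hrR ha1 ha2⟩
    rintro rfl
    have h1 : r ∣ q ^ n - 1 := by
      rw [← hua, hR]
      exact hrR.mul_right _
    have h2 : r ∣ q ^ n := (dvd_pow_self r hf).trans (by rw [← hq]; exact dvd_pow_self q (by omega))
    have h3 : 1 ≤ q ^ n := Nat.one_le_pow _ _ (by omega)
    have h4 := (Nat.dvd_sub_iff_right h3 h2).1 h1
    exact hr.one_lt.ne' (Nat.dvd_one.1 h4)
  have iso : ∀ (x : Matrix.ProjectiveSpecialLinearGroup (Fin n) F) (r : ℕ), r.Prime → r ∣ R → r ∣ orderOf x →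
      orderOf x ∣ R := by
    intro x r hr hrR hrx
    obtain ⟨-, hrp, hra⟩ := hprime r hr hrR
    obtain ⟨E, hE, hEn⟩ := top_psl hq hF hq3 (by omega) hr hrp hra x hrx
    have : E = R := by
      apply Nat.eq_of_mul_eq_mul_right hwp
      rw [hEn, hR]
    rwa [← this]
  have elt : ∃ x : Matrix.ProjectiveSpecialLinearGroup (Fin n) F, orderOf x = R := by
    obtain ⟨x, hx⟩ := exists_top (F := F) (n := n) (by omega)
    rw [Nat.card_eq_fintype_card, hF, ← hua, hR, mul_assoc] at hx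
    have h1 : R ∣ orderOf x := Nat.dvd_of_mul_dvd_mul_right hwp hx
    obtain ⟨r, hr, hrR⟩ := Nat.exists_prime_and_dvd (n := R) (by omega)
    exact ⟨x, Nat.dvd_antisymm (iso x r hr hrR (hrR.trans h1)) h1⟩
  refine NoCross.congr (noCross_of (L := L) hP.nc ?_ ?_ ?_ (fun r hr hrR => (hprime r hr hrR).1) hcoq ?_ ?_ ?_ ?_ ?_)
    (MulEquiv.refl L)
  · intro y
    have h1 : orderOf (e y) = orderOf y := orderOf_injective e.toMonoidHom e.injective y
    rw [← h1]
    exact window_psl hq hF hp2 hnp (by omega) (e y)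
  · intro x r hr hrR hrx
    have h1 : orderOf (e x) = orderOf x := orderOf_injective e.toMonoidHom e.injective x
    rw [← h1] at hrx ⊢
    exact iso (e x) r hr hrR hrx
  · obtain ⟨x, hx⟩ := elt
    exact ⟨e.symm x, by rw [← hx]; exact orderOf_injective e.symm.toMonoidHom e.symm.injective x⟩
  · intro h1; omega
  · intro h1; omega
  · intro h1; omega
  · intro h1; omega
  · intro h1; omega

/-- **`PSU_5(q)`.** -/
theorem noCross_psu5 {p f : ℕ} (hp : p.Prime) (hp2 : p ≠ 2) {L : Type w} [Group L] [Finite L]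
    (hL : Fam.Is p f L (.psu 5)) : NoCross.{u, w} p L := by
  have hfp := Fact.mk hp
  have hcoq : Coq3 L := coq3_of_classes (t := .psu 5) trivial hp hL hp2 (i := 4) (j := 3) (k := 5) (by norm_num)
    (by norm_num) (by norm_num) (show 4 ≤ 5 by norm_num) (show 3 ≤ 5 by norm_num) (show 5 ≤ 5 by norm_num)
    ⟨by norm_num, by norm_num, by norm_num⟩ ⟨by norm_num, by norm_num, by norm_num⟩
    ⟨by norm_num, by norm_num, by norm_num⟩ (by norm_num) (by norm_num)
  obtain ⟨-, -, F, _, _, _, hF, ⟨e0⟩⟩ := hL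
  have e : L ≃* PSU 5 F (p ^ f) := e0
  clear e0
  have hnp : Nat.Prime 5 := by norm_num
  have hf : f ≠ 0 := by
    rintro rfl
    have := Fintype.one_lt_card (α := F)
    rw [hF] at this
    simp at this
  generalize hq : p ^ f = q at hF e
  replace hq := hq.symm
  have hq3 : 3 ≤ q := by
    have h1 := Nat.le_self_pow hf p
    have h2 := hp.two_le
    omega
  have ht := (par_minus hq3).ht
  obtain ⟨R, hR⟩ := gcd_mul_dvd_ua (s := -(q : ℤ)) (n := 5) ht
  rw [mul_comm] at hR
  have hua : ua (-(q : ℤ)) 5 = q ^ 5 + 1 := ua_minus_odd (by decide)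
  have hR0 : 0 < R := by
    rcases Nat.eq_zero_or_pos R with h | h
    · exfalso
      rw [h, zero_mul] at hR
      omega
    · exact h
  have hP : MNum p q (Nat.gcd 5 (q + 1)) (Nat.gcd 5 (q + 1) * (q + 1)) R :=
    ⟨hp, hp2, ⟨f, by omega, hq⟩, rfl, rfl, by rw [← hR, hua]⟩
  have hwp := hP.w_pos
  have hbig := hP.big
  have hprime : ∀ r : ℕ, r.Prime → r ∣ R → 7 < r ∧ r ≠ p ∧ orderOf (-(q : ZMod r)) = 5 := by
    intro r hr hrR
    have h0 := lt_of_dvd_iso hnp (by norm_num) ht (by omega) hR.symm hR0 hr hrR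
    refine ⟨h0.1, ?_, ?_⟩
    · rintro rfl
      have h1 : r ∣ q ^ 5 + 1 := by
        rw [← hua, hR]
        exact hrR.mul_right _
      have h2 : r ∣ q ^ 5 := (dvd_pow_self r hf).trans (by rw [← hq]; exact dvd_pow_self q (by omega))
      have h4 := (Nat.dvd_add_right h2).1 h1
      exact hr.one_lt.ne' (Nat.dvd_one.1 h4)
    · have h1 := h0.2
      push_cast at h1
      exact h1
  have hRe : R = (Cfsg.Agent.H364.Unitary.sg q 5).natAbs / Nat.gcd 5 (q + 1) := by
    have h1 := Cfsg.Agent.H437.Win.sg_natAbs (q := q) (n := 5) (by decide)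
    have h2 : R * Nat.gcd 5 (q + 1) = (Cfsg.Agent.H364.Unitary.sg q 5).natAbs := by
      apply Nat.eq_of_mul_eq_mul_right (show 0 < q + 1 by omega)
      rw [h1, ← hua, hR]
      ring
    rw [← h2, Nat.mul_div_cancel _ hP.c_pos]
  have iso : ∀ (x : PSU 5 F q) (r : ℕ), r.Prime → r ∣ R → r ∣ orderOf x → orderOf x ∣ R := by
    intro x r hr hrR hrx
    obtain ⟨-, hrp, hra⟩ := hprime r hr hrR
    rw [hRe]
    refine Cfsg.Agent.H364.Unitary.psu_orderOf_dvd hF hr ?_ (by omega) (by omega) hra hrx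
    intro h0
    have h1 := (CharP.cast_eq_zero_iff F p r).1 h0
    exact hrp ((Nat.prime_dvd_prime_iff_eq hp hr).1 h1).symm
  have elt : ∃ x : PSU 5 F q, orderOf x = R := by
    obtain ⟨x, hx⟩ := Cfsg.Agent.H364.UTorus.exists_psu_orderOf hF (n := 5) (by decide) (by omega)
    have h1 : (q ^ 5 + 1) / (q + 1) = R * Nat.gcd 5 (q + 1) := by
      rw [← hua, hR]
      rw [show R * (Nat.gcd 5 (q + 1) * (q + 1)) = R * Nat.gcd 5 (q + 1) * (q + 1) by ring]
      exact Nat.mul_div_cancel _ (by omega)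
    rw [h1] at hx
    have h2 : R ∣ orderOf x := Nat.dvd_of_mul_dvd_mul_right hP.c_pos hx
    obtain ⟨r, hr, hrR⟩ := Nat.exists_prime_and_dvd (n := R) (by omega)
    exact ⟨x, Nat.dvd_antisymm (iso x r hr hrR (hrR.trans h2)) h2⟩
  have hcard := Cfsg.Agent.S0280.result (F := F) (q := q) hF 5 (by norm_num)
  have hce : Nat.card L = Nat.card (PSU 5 F q) := Nat.card_congr e.toEquiv
  rw [← hce] at hcard
  have hnd : ∀ r : ℕ, r.Prime → (q = 3 ∧ (r = 13 ∨ r = 31)) ∨ (q = 9 ∧ r = 197) → ¬ r ∣ Nat.card L := by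
    intro r hr hqr hd
    have h1 : r ∣ q ^ (5 * (5 - 1) / 2) * ∏ i ∈ Finset.range 5, (if Even i then q ^ (i + 1) + 1 else q ^ (i + 1) - 1) := by
      rw [← hcard]
      exact (hd.mul_left _).mul_left _
    have e0 : Even 0 := by decide
    have e1 : ¬ Even 1 := by decide
    have e2 : Even 2 := by decide
    have e3 : ¬ Even 3 := by decide
    have e4 : Even 4 := by decide
    rw [Finset.prod_range_succ, Finset.prod_range_succ, Finset.prod_range_succ, Finset.prod_range_succ,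
      Finset.prod_range_succ, Finset.prod_range_zero, if_pos e0, if_neg e1, if_pos e2, if_neg e3, if_pos e4] at h1
    rcases hqr with ⟨h3, h4 | h4⟩ | ⟨h3, h4⟩
    · rw [h3, h4] at h1; norm_num at h1
    · rw [h3, h4] at h1; norm_num at h1
    · rw [h3, h4] at h1; norm_num at h1
  refine NoCross.congr (noCross_of (L := L) hP.nc ?_ ?_ ?_ (fun r hr hrR => (hprime r hr hrR).1) hcoq ?_ ?_ ?_ ?_ ?_)
    (MulEquiv.refl L)
  · intro y
    have h1 : orderOf (e y) = orderOf y := orderOf_injective e.toMonoidHom e.injective y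
    rw [← h1]
    exact window_psu hq hq3 hp2 hnp (by omega) (e y)
  · intro x r hr hrR hrx
    have h1 : orderOf (e x) = orderOf x := orderOf_injective e.toMonoidHom e.injective x
    rw [← h1] at hrx ⊢
    exact iso (e x) r hr hrR hrx
  · obtain ⟨x, hx⟩ := elt
    exact ⟨e.symm x, by rw [← hx]; exact orderOf_injective e.symm.toMonoidHom e.symm.injective x⟩
  · intro h1
    exact hnd 13 (by norm_num) (Or.inl ⟨by omega, Or.inl rfl⟩)
  · intro h1
    exact hnd 31 (by norm_num) (Or.inl ⟨by omega, Or.inr rfl⟩)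
  · intro h1
    exact hnd 197 (by norm_num) (Or.inr ⟨by omega, rfl⟩)
  · intro h1; omega
  · intro h1; omega

end Cfsg.Agent.R2.Spec.X7
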