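import Cfsg.Agent.R2.Spec.X7.Top
import Cfsg.Agent.R2.Spec.F1.LSide

/-!
# The frame: groups isospectral to `PSL_n(q)`, `PSU_n(q)` with an isolated number
-/

set_option autoImplicit false

namespace Cfsg.Agent.R2.Spec.X7

open Finset Function Cfsg Subgroup Cfsg.Agent.H420.QR Cfsg.Agent.H360.Iso
open Cfsg.Agent.H426.LieFam Cfsg.Agent.R2.Spec Cfsg.Agent.R2.Spec.F1
open Cfsg.Agent.H437.Win (exists_elt_factor)

universe u w

/-- a coclique of three primes, two of which are larger than `5` -/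
def Coq3 (L : Type*) [Group L] : Prop :=
  ∃ ρ : Finset ℕ, IsCoq L ρ ∧ 3 ≤ ρ.card ∧ ∃ u ∈ ρ, ∃ v ∈ ρ, u ≠ v ∧ 5 < u ∧ 5 < v

theorem cls_lt_mod {t : Fam} {q r : ℕ} (hr : r.Prime) (h3 : 3 ≤ cls t q r) : cls t q r ∣ r - 1 := by
  have hf := Fact.mk hr
  have h1 : ((sg t q : ℤ) : ZMod r) ≠ 0 := by
    intro h0
    rw [cls, h0, orderOf_zero] at h3
    omega
  exact orderOf_dvd_of_pow_eq_one (ZMod.pow_card_sub_one_eq_one h1)

theorem coq3_of_classes {t : Fam} (ht : P1.Classical t) {p f : ℕ} (hp : p.Prime) {L : Type w} [Group L] [Finite L]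
    (h : Fam.Is p f L t) (hp2 : p ≠ 2) {i j k : ℕ} (hi : 3 ≤ i) (hj : 3 ≤ j) (hk : 3 ≤ k)
    (mi : mem t i) (mj : mem t j) (mk : mem t k) (hij : na t i j) (hik : na t i k) (hjk : na t j k)
    (hj4 : j ≠ 4) (hk4 : k ≠ 4) : Coq3 L := by
  have hLS : LS t p f L L := LS.of_is ht hp h rfl
  have hq3 : 3 ≤ p ^ f := by
    have h1 := Nat.le_self_pow (by have := hLS.fpos; omega) p (n := f)
    have := hp.two_le
    omega
  have hex : p ^ f = 2 → ∀ n : ℕ, n ≠ 6 ∧ n ≠ 3 := by omega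
  obtain ⟨r, hr, hri⟩ := exists_cls (t := t) (q := p ^ f) (i := i) (by omega) hi (by omega)
  obtain ⟨s, hs, hsj⟩ := exists_cls (t := t) (q := p ^ f) (i := j) (by omega) hj (by omega)
  obtain ⟨z, hz, hzk⟩ := exists_cls (t := t) (q := p ^ f) (i := k) (by omega) hk (by omega)
  have Hr : In t (p ^ f) i r := ⟨hr, hri, hi, mi⟩
  have Hs : In t (p ^ f) j s := ⟨hs, hsj, hj, mj⟩
  have Hz : In t (p ^ f) k z := ⟨hz, hzk, hk, mk⟩
  have h1 := Hr.ne Hs (na_ne hij)
  have h2 := Hr.ne Hz (na_ne hik)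
  have h3 := Hs.ne Hz (na_ne hjk)
  have hcoq := isCoq_three hr hs hz (Hr.dvd hLS) (Hs.dvd hLS) (Hz.dvd hLS)
    (fun hg => (hLS.adj_iff Hr Hs h1).1 hg hij) (fun hg => (hLS.adj_iff Hr Hz h2).1 hg hik)
    (fun hg => (hLS.adj_iff Hs Hz h3).1 hg hjk)
  have big : ∀ {l x : ℕ}, In t (p ^ f) l x → l ≠ 4 → 5 < x := by
    intro l x hx hl
    have h5 := hx.five
    have h4 := cls_lt_mod hx.prime (by rw [hx.cls_eq]; exact hx.reg)
    rw [hx.cls_eq] at h4
    rcases Nat.eq_or_lt_of_le h5 with h6 | h6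
    · exfalso
      rw [← h6] at h4
      have h7 := hx.reg
      have h8 := Nat.le_of_dvd (by norm_num) h4
      interval_cases l
      · omega
      · exact hl rfl
    · exact h6
  refine ⟨_, hcoq, ?_, s, by simp, z, by simp, h3, big Hs hj4, big Hz hk4⟩
  rw [Finset.card_insert_of_notMem, Finset.card_insert_of_notMem, Finset.card_singleton]
  · rw [Finset.mem_singleton]; exact h3
  · rw [Finset.mem_insert, Finset.mem_singleton, not_or]
    exact ⟨h1, h2⟩

/-- **The frame.** -/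
theorem noCross_of {L : Type w} [Group L] [Finite L] {p R : ℕ} {W : ℕ → Prop} (nc : NC p R W)
    (win : ∀ y : L, W (orderOf y)) (iso : ∀ (x : L) (r : ℕ), r.Prime → r ∣ R → r ∣ orderOf x → orderOf x ∣ R)
    (elt : ∃ x : L, orderOf x = R) (big : ∀ r : ℕ, r.Prime → r ∣ R → 7 < r) (coq : Coq3 L)
    (s13 : R = 61 → ¬ 13 ∣ Nat.card L) (s31 : R = 61 → ¬ 31 ∣ Nat.card L) (s197 : R = 1181 → ¬ 197 ∣ Nat.card L)
    (s41 : R = 547 → ¬ 41 ∣ Nat.card L) (s137 : R = 547 → ¬ 137 ∣ Nat.card L) :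
    NoCross.{u, w} p L := by
  intro G _ _ h H hH N _ hs hna r hr hrp
  obtain ⟨ρ, hρ, hρ4, u, hu, v, hv, huv, hu5, hv5⟩ := coq
  have hR61 : 61 ≤ R := by
    have := nc.big
    omega
  have hex : ∀ k : ℕ, (∃ x : G, orderOf x = k) ↔ ∃ x : L, orderOf x = k := by
    intro k
    have : k ∈ Set.range (orderOf : G → ℕ) ↔ k ∈ Set.range (orderOf : L → ℕ) := by rw [h]
    exact this
  have hdvd : ∀ s : ℕ, s.Prime → (s ∣ Nat.card G ↔ s ∣ Nat.card L) := by
    intro s hs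
    have := Fact.mk hs
    constructor
    · intro hd
      obtain ⟨y, hy⟩ := (hex s).1 (exists_prime_orderOf_dvd_card' s hd)
      rw [← hy]
      exact orderOf_dvd_natCard y
    · intro hd
      obtain ⟨y, hy⟩ := (hex s).2 (exists_prime_orderOf_dvd_card' s hd)
      rw [← hy]
      exact orderOf_dvd_natCard y
  obtain ⟨x₀, hx₀⟩ := elt
  have hRL : R ∣ Nat.card L := by
    rw [← hx₀]
    exact orderOf_dvd_natCard x₀
  have h2A : 2 ∉ {s : ℕ | s ∣ R} := by
    intro h2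
    have := big 2 Nat.prime_two h2
    omega
  have hA : ∀ r ∈ {s : ℕ | s ∣ R}, ∀ s ∉ {s : ℕ | s ∣ R}, r.Prime → s.Prime → r ∣ Nat.card L →
      s ∣ Nat.card L → ¬ ∃ x : L, orderOf x = r * s := by
    rintro t ht s hs htp hsp - - ⟨x, hx⟩
    have h1 := iso x t htp ht (by rw [hx]; exact dvd_mul_right _ _)
    rw [hx] at h1
    exact hs ((dvd_mul_left s t).trans h1)
  have hρG : IsCoq G ρ := ⟨hρ.prime, fun s hs => (hdvd s (hρ.prime s hs)).2 (hρ.dvd s hs),
    fun s hs t ht hst hx => hρ.nadj s hs t ht hst ((hex _).1 hx)⟩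
  obtain ⟨t, ht, htR⟩ := Nat.exists_prime_and_dvd (n := R) (by omega)
  have ht2 : t ≠ 2 := by
    have := big t ht htR
    omega
  obtain ⟨K, hK, S, hS, hred⟩ := exists_red hρG hρ4 ⟨t, ht, ht2, (hdvd t ht).2 (htR.trans hRL), fun hx => by
    obtain ⟨x, hx⟩ := (hex _).1 hx
    have h1 := iso x t ht htR (by rw [hx]; exact dvd_mul_left _ _)
    rw [hx] at h1
    exact h2A ((dvd_mul_right 2 t).trans h1)⟩
  have key := Cfsg.Agent.H510.RedIso.isolated' h hred h2A hA hρ hρ4 hu hv huv hu5 hv5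
  have hsimp := hred.simple
  obtain ⟨e⟩ := Cfsg.Agent.H414.CompFactor.equiv_of_factor K hred.solv S hred.out H hH N hna
  have hcK : Nat.Coprime R (Nat.card ↥K) := Nat.coprime_of_dvd fun s hs hsR hsK =>
    (key s hsR hs (hsR.trans hRL)).2.1 hsK
  have hcS : Nat.Coprime R S.index := Nat.coprime_of_dvd fun s hs hsR hsK =>
    (key s hsR hs (hsR.trans hRL)).2.2 hsK
  have helt : ∃ x : ↥S, orderOf x = R := exists_elt_factor hcK hcS ((hex R).2 ⟨x₀, hx₀⟩)
  have hT : ∀ x : ↥S, ∃ y : L, orderOf y = orderOf x := by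
    intro x
    have h1 : ∃ z : G ⧸ K, orderOf z = orderOf x := ⟨x, Subgroup.orderOf_coe x⟩
    exact (hex _).1 (Cfsg.Agent.H414.Adj.exists_order_quot K (orderOf_pos x).ne' h1)
  have hprime : ∀ s : ℕ, s.Prime → s ∣ Nat.card ↥S → s ∣ Nat.card L := by
    intro s hs hd
    have := Fact.mk hs
    obtain ⟨x, hx⟩ := exists_prime_orderOf_dvd_card' s hd
    obtain ⟨y, hy⟩ := hT x
    rw [← hx, ← hy]
    exact orderOf_dvd_natCard y
  have hSC : SC ↥S p R W := by
    refine ⟨⟨helt, ?_, h2A, ?_, by omega⟩, nc, ?_, ?_, ?_, ?_, ?_, ?_⟩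
    · intro x r hr hrR hx
      obtain ⟨y, hy⟩ := hT x
      rw [← hy] at hx ⊢
      exact iso y r hr hrR hx
    · intro h3
      have := big 3 Nat.prime_three h3
      omega
    · intro x
      obtain ⟨y, hy⟩ := hT x
      rw [← hy]
      exact win y
    · exact fun h1 h2 => s13 h1 (hprime 13 (by norm_num) h2)
    · exact fun h1 h2 => s31 h1 (hprime 31 (by norm_num) h2)
    · exact fun h1 h2 => s197 h1 (hprime 197 (by norm_num) h2)
    · exact fun h1 h2 => s41 h1 (hprime 41 (by norm_num) h2)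
    · exact fun h1 h2 => s137 h1 (hprime 137 (by norm_num) h2)
  exact (hSC.congr e.symm).not_lie hr hrp

end Cfsg.Agent.R2.Spec.X7
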